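import Groth.Agent.IsoNatLib.BG
import Groth.Agent.QuotLib.BalProd
import Groth.Prelude.Def_StGerb2

/-!
# A gerbe over the base with a section is the classifying stack of the automorphism group
-/

set_option autoImplicit false
set_option backward.isDefEq.respectTransparency false
set_option backward.isDefEq.respectTransparency.types false

universe u

open CategoryTheory CategoryTheory.Functor CategoryTheory.Limits MonoidalCategory CartesianMonoidalCategory MonObj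
open GrpObj Opposite AlgebraicGeometry AlgSp
open Groth.Agent.FibBase Groth.Agent.IsoNatLib Groth.Agent.QuotLib Groth.Agent.QuotLib.BalProd

namespace Groth.Agent.IsoNatLib.GerbeSection

variable {S : Scheme.{u}} {G : Over S} [GrpObj G]

local notation "K₀" => Scheme.fppfPrecoverage

/-- Automorphisms in the fibre over an equal object. -/
def autTransport {C : Type*} [Category C] {𝒳 : BasedCategory C} {T : C} (a : 𝒳.obj) (e : 𝒳.p.obj a = T) :
    Gerb.AutO a ≃* @Aut (𝒳.p.Fiber T) _ ⟨a, e⟩ := by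
  subst e
  exact MulEquiv.refl _

theorem autTransport_hom {C : Type*} [Category C] {𝒳 : BasedCategory C} {T : C} (a : 𝒳.obj) (e : 𝒳.p.obj a = T)
    (s : Gerb.AutO a) : (autTransport a e s).hom.1 = s.hom.1 := by
  subst e
  rfl

/-- An object over the terminal one as an object of the forward slice. -/
noncomputable def fwdIso (T : Over S) (h : T ⟶ (Over.mk (𝟙 S) : Over S)) : (Over.mk h.left : Over S) ≅ T :=
  Over.isoMk (Iso.refl _) (by
    show 𝟙 _ ≫ T.hom = h.left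
    rw [Category.id_comp, ← Over.w h]
    exact Category.comp_id _)

/-- Points in the forward slice. -/
noncomputable def ptEquiv (T : Over S) (h : T ⟶ (Over.mk (𝟙 S) : Over S)) :
    (T ⟶ G) ≃* (Gerb.ptsGrp (Over.mk (𝟙 S) : Over S) G).obj (op (Over.mk h)) :=
  { toFun := fun g => (fwdIso T h).hom ≫ g
    invFun := fun g => (fwdIso T h).inv ≫ (show (Over.mk h.left : Over S) ⟶ G from g)
    left_inv := fun g => Iso.inv_hom_id_assoc _ g
    right_inv := fun g => Iso.hom_inv_id_assoc _ _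
    map_mul' := fun a b => MonObj.comp_mul _ a b }

variable {𝒳 : AlgSt.Cat S} (x : FibCat.overCat (Over.mk (𝟙 S) : Over S) ⥤ᵇ 𝒳) (r : Gerb.AutRep x (Gerb.ptsGrp (Over.mk (𝟙 S) : Over S) G))

/-- The automorphism attached to a point. -/
noncomputable def autOf {T : Over S} (h : T ⟶ (Over.mk (𝟙 S) : Over S)) : (T ⟶ G) ≃* @Aut (𝒳.p.Fiber T) _ (fib x (Over.mk h)) :=
  (ptEquiv T h).trans ((r.iso (Over.mk h)).trans (autTransport _ (x.w_obj (Over.mk h))))

theorem autOf_natural {T T' : Over S} {h : T ⟶ (Over.mk (𝟙 S) : Over S)} {h' : T' ⟶ (Over.mk (𝟙 S) : Over S)} (p : Over.mk h' ⟶ Over.mk h) (g : T ⟶ G) :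
    (autOf x r h' (p.left ≫ g)).hom.1 ≫ x.map p = x.map p ≫ (autOf x r h g).hom.1 := by
  have hg : ptEquiv T' h' (p.left ≫ g) = (Gerb.ptsGrp (Over.mk (𝟙 S) : Over S) G).map p.op (ptEquiv T h g) := Over.OverMorphism.ext (by
    show 𝟙 _ ≫ p.left.left ≫ g.left = p.left.left ≫ 𝟙 _ ≫ g.left
    simp)
  simp only [autOf, MulEquiv.trans_apply, autTransport_hom, hg]
  exact r.natural p _

/-- The bijection of the isomorphisms. -/
noncomputable def isoMapF {T : Over S} (h g : T ⟶ (Over.mk (𝟙 S) : Over S)) :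
    @Iso ((AlgSt.BG K₀ G).p.Fiber T) _ (fib (bgChart G) (Over.mk h)) (fib (bgChart G) (Over.mk g)) ≃
      @Iso (𝒳.p.Fiber T) _ (fib x (Over.mk h)) (fib x (Over.mk g)) :=
  (isoEquiv (aX := AlgSt.trivAction G) (h : T ⟶ 𝟙_ (Over S)) g).trans
    ((Equiv.subtypeUnivEquiv fun _ => toUnit_unique _ _).trans ((Equiv.inv _).trans
      (((autOf x r h).toEquiv).trans (Equiv.cast (by rw [Over.mkIdTerminal.hom_ext h g]; rfl)))))

theorem isoMapF_eq {T : Over S} (h : T ⟶ (Over.mk (𝟙 S) : Over S))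
    (δ : @Iso ((AlgSt.BG K₀ G).p.Fiber T) _ (fib (bgChart G) (Over.mk h)) (fib (bgChart G) (Over.mk h))) :
    isoMapF x r h h δ = autOf x r h (gof (aX := AlgSt.trivAction G) (a := h) (b := h) δ.hom.1)⁻¹ := rfl

/-- The comparison with the trivial torsor. -/
noncomputable def isoMap : IsoMap (bgChart G) x where
  f := fun h g => isoMapF x r h g
  res := fun {T T'} {h g h' g'} p q hpq δ δ' hc => by
    obtain rfl := Over.mkIdTerminal.hom_ext g h
    obtain rfl := Over.mkIdTerminal.hom_ext g' h'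
    obtain rfl : p = q := Over.OverMorphism.ext hpq
    have hd : gof (aX := AlgSt.trivAction G) (a := g') (b := g)
          (δ'.hom.1 ≫ (bgChart G).map p : QuotLib.triv K₀ G (AlgSt.trivAction G) g' ⟶ QuotLib.triv K₀ G (AlgSt.trivAction G) g) =
        gof (aX := AlgSt.trivAction G) (a := g') (b := g)
          ((bgChart G).map p ≫ δ.hom.1 : QuotLib.triv K₀ G (AlgSt.trivAction G) g' ⟶ QuotLib.triv K₀ G (AlgSt.trivAction G) g) :=
      congrArg (fun m : QuotLib.triv K₀ G (AlgSt.trivAction G) g' ⟶ QuotLib.triv K₀ G (AlgSt.trivAction G) g => gof m) hc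
    have hp : gof (aX := AlgSt.trivAction G) (a := g') (b := g) ((bgChart G).map p) = 1 := by
      show sec G T' ≫ (G ◁ p.left) ≫ fst G T = 1
      exact (congrArg (sec G T' ≫ ·) (whiskerLeft_fst G _)).trans (lift_fst _ _)
    rw [gof_comp, gof_comp, hp, MonObj.comp_one, _root_.mul_one, _root_.one_mul] at hd
    change gof δ'.hom.1 = p.left ≫ gof δ.hom.1 at hd
    rw [isoMapF_eq, isoMapF_eq]
    erw [hd]
    rw [← GrpObj.comp_inv]
    exact autOf_natural x r p _
  comp := fun {T} h g k δ ε => by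
    obtain rfl := Over.mkIdTerminal.hom_ext g h
    obtain rfl := Over.mkIdTerminal.hom_ext k g
    rw [isoMapF_eq, isoMapF_eq, isoMapF_eq]
    have e : gof (aX := AlgSt.trivAction G) (a := k) (b := k) (δ.hom.1 ≫ ε.hom.1) =
        gof (aX := AlgSt.trivAction G) (a := k) (b := k) δ.hom.1 *
          gof (aX := AlgSt.trivAction G) (a := k) (b := k) ε.hom.1 := by
      rw [gof_comp, base_eq_id _ δ.hom.2, Category.id_comp]
    show autOf x r k (gof (δ.hom.1 ≫ ε.hom.1))⁻¹ = _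
    erw [e, _root_.mul_inv_rev, map_mul]
    rfl

/-- Objects of the gerbe are locally values of the section. -/
theorem covers (h𝒳 : FibCat.IsFibGrpd 𝒳.p) (π : 𝒳 ⥤ᵇ FibCat.overCat (Over.mk (𝟙 S) : Over S))
    (hπ : Gerb.LocSurjHom (QuotSh.J K₀ S) π) (a : 𝒳.obj) :
    ∃ R ∈ QuotSh.J K₀ S (𝒳.p.obj a), ∀ ⦃V : Over S⦄ (f : V ⟶ 𝒳.p.obj a), R f →
      ∃ (g : V ⟶ (Over.mk (𝟙 S) : Over S)) (φ : x.obj (Over.mk g) ⟶ a), 𝒳.p.IsHomLift f φ := by
  let c : Over (Over.mk (𝟙 S) : Over S) := Over.mk (Over.mkIdTerminal.from (𝒳.p.obj a))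
  let a' := x.obj c
  have ha' : 𝒳.p.obj a' = 𝒳.p.obj a := x.w_obj c
  have hb : (π.obj a').left = (π.obj a).left := (π.w_obj a').trans (ha'.trans (π.w_obj a).symm)
  let b : π.obj a' ⟶ π.obj a := Over.homMk (eqToHom hb) (Over.mkIdTerminal.hom_ext _ _)
  obtain ⟨R, hR, hR'⟩ := hπ a' a b (IsHomLift.of_fac' _ _ b (π.w_obj a') ((π.w_obj a).trans ha'.symm) (by
    show eqToHom hb = _
    simp))
  refine ⟨R.pullback (eqToHom ha'.symm), (QuotSh.J K₀ S).pullback_stable _ hR, fun V f hf => ?_⟩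
  obtain ⟨x₀, φ, ψ, hφ, hψ, -⟩ := hR' _ hf
  let q : Over.mk (f ≫ c.hom) ⟶ c := Over.homMk f rfl
  have hq0 : 𝒳.p.IsHomLift f (x.map q) := overMap_isHomLift x q
  have hq : 𝒳.p.IsHomLift (f ≫ eqToHom ha'.symm) (x.map q) := IsHomLift.of_fac' _ _ _ (x.w_obj _) rfl (by
    have e := IsHomLift.fac' 𝒳.p f (x.map q)
    rw [e]; simp)
  obtain ⟨e, he, -⟩ := exists_iso_of_lifts (p := 𝒳.p) (hp := h𝒳) (f ≫ eqToHom ha'.symm) φ (x.map q)
  refine ⟨f ≫ c.hom, e.hom ≫ ψ, ?_⟩
  have h1 : 𝒳.p.IsHomLift (f ≫ eqToHom ha'.symm) (e.hom ≫ ψ) := IsHomLift.comp_lift_id_left' 𝒳.p V e.hom _ ψ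
  exact IsHomLift.of_fac' _ f _ (x.w_obj _) rfl (by
    rw [IsHomLift.fac' 𝒳.p (f ≫ eqToHom ha'.symm) (e.hom ≫ ψ)]
    simp)

/-- A gerbe over the base with a section is the classifying stack. -/
theorem isQuotientOf [IsAffineHom G.hom] (h𝒳 : Stk.IsStack (QuotSh.J K₀ S) 𝒳) (π : 𝒳 ⥤ᵇ FibCat.overCat (Over.mk (𝟙 S) : Over S))
    (hπ : Gerb.LocSurjHom (QuotSh.J K₀ S) π) (r : Gerb.AutRep x (Gerb.ptsGrp (Over.mk (𝟙 S) : Over S) G)) :
    AlgSt.IsQuotientOf K₀ G (AlgSt.trivAction G) 𝒳 :=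
  exists_equiv_of_isoMap_cover QuotStack.isStack h𝒳 (bgChart_covers G) (covers x h𝒳.1 π hπ) (isoMap x r)

end Groth.Agent.IsoNatLib.GerbeSection
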